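import Cfsg.Agent.Lib.Blocks.TopBlock
import Cfsg.Agent.Lib.Pairs.AbelianLocal
import Cfsg.Agent.Lib.Pairs.MaximalCriterion
import Cfsg.Agent.Lib.Blocks.Star.Stab
import Cfsg.Agent.S4511

/-!
# Blocks with one character more than Brauer characters

Every class of nontrivial elements of a defect group contributes to `k - l`.
-/

set_option autoImplicit false

open scoped Classical

namespace CfsgLib.Blocks.DeficitOne

open Cfsg CfsgLib.Blocks CfsgLib.Pairs

variable {G : Type*} [Group G] [Fintype G] {M : Ideal AlgInt} [M.IsPrime] {p : ℕ} [Fact p.Prime]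
  {B : Set (IrrCharacter G)}

omit [M.IsPrime] in
/-- A block has a nonzero rank. -/
theorem one_le_blockRank {H : Type*} [Group H] [Finite H] {b : Set (IrrCharacter H)}
    {ψ : IrrCharacter H} (hψ : ψ ∈ b) : 1 ≤ blockRank p b := by
  have := Fintype.ofFinite H
  have hne : pRegularPart p (ψ : H → ℂ) ≠ 0 := fun e => by
    have h := congrFun e 1
    rw [pRegularPart, if_pos (show IsPRegular p (1 : H) by
      simp [IsPRegular, (Fact.out : p.Prime).ne_one])] at h
    exact Char.IsIrr.apply_one_ne_zero ψ.2 h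
  rw [blockRank, ← finrank_span_singleton (K := ℂ) hne]
  exact Submodule.finrank_mono (Submodule.span_mono (Set.singleton_subset_iff.2 ⟨ψ, hψ, rfl⟩))

omit [Fintype G] in
/-- The centralizer of an element and that of the subgroup it generates. -/
theorem centralizer_singleton_eq (x : G) :
    Subgroup.centralizer ({x} : Set G) = Subgroup.centralizer (Subgroup.zpowers x : Set G) := by
  rw [Subgroup.zpowers_eq_closure, Subgroup.centralizer_closure]

/-- The contributions of pairwise non-conjugate nontrivial `p`-elements. -/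
theorem sum_local_rank_add_le (hM : IsPModular p M) (hB : IsPBlock M B) (s : Finset G)
    (hs : ∀ x ∈ s, x ≠ 1 ∧ ∃ k : ℕ, orderOf x = p ^ k)
    (hsc : ∀ x ∈ s, ∀ y ∈ s, IsConj x y → x = y) :
    blockRank p B + ∑ x ∈ s, ∑ᶠ b ∈ {b : Set (IrrCharacter (Subgroup.centralizer ({x} : Set G))) |
      IsInducedBlock M (Subgroup.centralizer ({x} : Set G)) b B}, blockRank p b ≤ Nat.card B := by
  set t : Finset G := insert 1 s with ht
  have htc : ∀ x ∈ t, ∀ y ∈ t, IsConj x y → x = y := by
    intro x hx y hy hxy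
    rcases Finset.mem_insert.1 hx with rfl | hx'
    · exact (isConj_one_right.1 hxy).symm
    rcases Finset.mem_insert.1 hy with rfl | hy'
    · exact isConj_one_left.1 hxy
    exact hsc x hx' y hy' hxy
  have htp : ∀ x ∈ t, ∃ k : ℕ, orderOf x = p ^ k := by
    intro x hx
    rcases Finset.mem_insert.1 hx with rfl | hx'
    · exact ⟨0, by simp⟩
    · exact (hs x hx').2
  let out : ConjClasses G → G := fun C =>
    if h : ∃ y ∈ t, ConjClasses.mk y = C then h.choose else Quotient.out C
  have hout : ∀ C, ConjClasses.mk (out C) = C := fun C => by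
    by_cases h : ∃ y ∈ t, ConjClasses.mk y = C
    · simp only [out, dif_pos h]
      exact h.choose_spec.2
    · simp only [out, dif_neg h]
      exact Quotient.out_eq C
  have hoeq : ∀ x ∈ t, out (ConjClasses.mk x) = x := fun x hx => by
    have h : ∃ y ∈ t, ConjClasses.mk y = ConjClasses.mk x := ⟨x, hx, rfl⟩
    simp only [out, dif_pos h]
    exact htc _ h.choose_spec.1 x hx (ConjClasses.mk_eq_mk_iff_isConj.1 h.choose_spec.2)
  let X : Finset G := (Finset.univ.filter fun g : G => ∃ k : ℕ, orderOf g = p ^ k).image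
    fun g => out (ConjClasses.mk g)
  have hcj : ∀ g : G, IsConj g (out (ConjClasses.mk g)) := fun g =>
    ConjClasses.mk_eq_mk_iff_isConj.1 (hout _).symm
  have hX : ∀ x ∈ X, ∃ k : ℕ, orderOf x = p ^ k := by
    intro x hx
    obtain ⟨g, hg, rfl⟩ := Finset.mem_image.1 hx
    obtain ⟨k, hk⟩ := (Finset.mem_filter.1 hg).2
    obtain ⟨y, hy⟩ := isConj_iff.1 (hcj g)
    exact ⟨k, by rw [← hy, show y * g * y⁻¹ = MulAut.conj y g from rfl, MulEquiv.orderOf_eq, hk]⟩
  have hXrep : ∀ g : G, (∃ k : ℕ, orderOf g = p ^ k) → ∃! x, x ∈ X ∧ IsConj g x := by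
    intro g hg
    refine ⟨_, ⟨Finset.mem_image.2 ⟨g, Finset.mem_filter.2 ⟨Finset.mem_univ _, hg⟩, rfl⟩, hcj g⟩,
      fun x ⟨hx, hgx⟩ => ?_⟩
    obtain ⟨g', -, rfl⟩ := Finset.mem_image.1 hx
    congr 1
    exact (hout (ConjClasses.mk g')).symm.trans (ConjClasses.mk_eq_mk_iff_isConj.2 hgx).symm
  have htX : t ⊆ X := fun x hx => Finset.mem_image.2
    ⟨x, Finset.mem_filter.2 ⟨Finset.mem_univ _, htp x hx⟩, hoeq x hx⟩
  have h := Cfsg.Agent.S4511.result p M hM B hB X hX hXrep
  rw [h]
  refine le_trans (le_of_eq ?_) (Finset.sum_le_sum_of_subset htX)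
  rw [ht, Finset.sum_insert fun h1 => (hs 1 h1).1 rfl,
    sum_blockRank_centralizer_one p hB (Subgroup.centralizer ({1} : Set G))
      (eq_top_iff.2 fun g _ => Subgroup.mem_centralizer_singleton_iff.2 (by simp))]

/-- An element of a defect group contributes. -/
theorem one_le_local_rank (hM : IsPModular p M) (hB : IsPBlock M B) {D : Subgroup G}
    (hD : IsDefectGroup p M B D) {u : G} (hu : u ∈ D) :
    1 ≤ ∑ᶠ b ∈ {b : Set (IrrCharacter (Subgroup.centralizer ({u} : Set G))) |
      IsInducedBlock M (Subgroup.centralizer ({u} : Set G)) b B}, blockRank p b := by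
  obtain ⟨c, hc⟩ := exists_pairOf_of_isDefectGroup hM hB hD
  have hmax := isMaximal_of_isDefectGroup hM hc hD
  obtain ⟨f, -, hle⟩ := exists_below hM (Nat.card D) (Nat.sub_le _ _) hmax.1.1
    (Subgroup.zpowers_le.2 hu)
  have hfB := (subpairLE_pairOf_iff hM (a := ⟨Subgroup.zpowers u, f⟩) hle B).1 hmax.1
  have key : ∀ H : Subgroup G, H = Subgroup.centralizer (Subgroup.zpowers u : Set G) →
      1 ≤ ∑ᶠ b ∈ {b : Set (IrrCharacter H) | IsInducedBlock M H b B}, blockRank p b := by
    rintro H rfl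
    have hind := Star.isInducedBlock_of_pairOf hM hfB
    obtain ⟨ψ, hψ⟩ := IsPBlock.nonempty (isInducedBlock_iff.1 hind).1
    rw [finsum_mem_eq_finite_toFinset_sum _ (Set.toFinite _)]
    exact (one_le_blockRank hψ).trans (Finset.single_le_sum (fun _ _ => Nat.zero_le _)
      ((Set.Finite.mem_toFinset _).2 hind))
  exact key _ (centralizer_singleton_eq u)

omit [M.IsPrime] in
theorem exists_orderOf_eq_pow {D : Subgroup G} (hD : IsPGroup p D) {u : G} (hu : u ∈ D) :
    ∃ k : ℕ, orderOf u = p ^ k := by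
  obtain ⟨k, hk⟩ := IsPGroup.iff_orderOf.1 hD ⟨u, hu⟩
  exact ⟨k, by rwa [Subgroup.orderOf_mk] at hk⟩

/-- With `k ≤ l + 1` the nontrivial elements of a defect group are conjugate. -/
theorem isConj_of_card_le (hM : IsPModular p M) (hB : IsPBlock M B) {D : Subgroup G}
    (hD : IsDefectGroup p M B D) (hk : Nat.card B ≤ blockRank p B + 1) {u v : G} (hu : u ∈ D)
    (hv : v ∈ D) (hu1 : u ≠ 1) (hv1 : v ≠ 1) : IsConj u v := by
  by_contra hne
  have hP := IsDefectGroup.isPGroup hD
  have h := sum_local_rank_add_le hM hB {u, v} (fun x hx => by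
    rcases Finset.mem_insert.1 hx with rfl | hx
    · exact ⟨hu1, exists_orderOf_eq_pow hP hu⟩
    · rw [Finset.mem_singleton] at hx
      exact ⟨hx ▸ hv1, hx ▸ exists_orderOf_eq_pow hP hv⟩) fun x hx y hy hxy => by
    simp only [Finset.mem_insert, Finset.mem_singleton] at hx hy
    rcases hx with rfl | rfl <;> rcases hy with rfl | rfl
    · rfl
    · exact absurd hxy hne
    · exact absurd hxy.symm hne
    · rfl
  rw [Finset.sum_pair fun e => hne (by rw [e])] at h
  have h1 := one_le_local_rank hM hB hD hu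
  have h2 := one_le_local_rank hM hB hD hv
  omega

end CfsgLib.Blocks.DeficitOne
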