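import Cfsg.Agent.Lib.Transfer.Fusion
import Cfsg.Agent.Lib.PLocal.PConstrained
import Cfsg.Agent.Lib.Core.Cores
import Mathlib.GroupTheory.FixedPointFree

/-!
# Sylow subgroups whose nontrivial elements are all conjugate
-/

set_option autoImplicit false

open scoped Classical

namespace CfsgLib.Blocks.DeficitOne

open Cfsg

variable {G : Type*} [Group G] [Finite G] {p : ℕ} [Fact p.Prime]

/-- All elements of a `p`-subgroup with one class of nontrivial elements have order dividing `p`. -/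
theorem pow_eq_one_of_isConj {D : Subgroup G} (hD : IsPGroup p D)
    (hconj : ∀ u ∈ D, ∀ v ∈ D, u ≠ 1 → v ≠ 1 → IsConj u v) {a : G} (ha : a ∈ D) : a ^ p = 1 := by
  by_cases ha1 : a = 1
  · rw [ha1, one_pow]
  obtain ⟨k, hk⟩ := IsPGroup.iff_orderOf.1 hD ⟨a, ha⟩
  rw [Subgroup.orderOf_mk] at hk
  have hp : p.Prime := Fact.out
  have hk0 : k ≠ 0 := fun e => ha1 (orderOf_eq_one_iff.1 (by rw [hk, e, pow_zero]))
  have hb : orderOf (a ^ p ^ (k - 1)) = p := by
    rw [orderOf_pow' _ (pow_ne_zero _ hp.ne_zero), hk,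
      Nat.gcd_eq_right (pow_dvd_pow p (Nat.sub_le k 1)), Nat.pow_div (Nat.sub_le k 1) hp.pos,
      show k - (k - 1) = 1 by omega, pow_one]
  obtain ⟨g, hg⟩ := isConj_iff.1 (hconj _ (D.pow_mem ha _) a ha
    (fun e => hp.ne_one (by rw [← hb, e, orderOf_one])) ha1)
  rw [← hg, conj_pow, (congrArg ((a ^ p ^ (k - 1)) ^ ·) hb.symm).trans (pow_orderOf_eq_one _),
    mul_one, mul_inv_cancel]

/-- If moreover the centralizers are `p`-nilpotent, a Sylow subgroup is abelian. -/
theorem commute_of_nilpotent_centralizers (P : Sylow p G)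
    (hconj : ∀ u ∈ (P : Subgroup G), ∀ v ∈ (P : Subgroup G), u ≠ 1 → v ≠ 1 → IsConj u v)
    (hnil : ∀ y ∈ (P : Subgroup G), y ≠ 1 →
      HasNormalPComplement p (Subgroup.centralizer ({y} : Set G)))
    (a : G) (ha : a ∈ (P : Subgroup G)) (b : G) (hb : b ∈ (P : Subgroup G)) : a * b = b * a := by
  have hp : p.Prime := Fact.out
  by_cases h2 : p = 2
  · subst h2
    have hs : ∀ c ∈ (P : Subgroup G), c⁻¹ = c := fun c hc => inv_eq_of_mul_eq_one_right (by
      rw [← pow_two]; exact pow_eq_one_of_isConj P.isPGroup' hconj hc)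
    rw [← hs _ (mul_mem ha hb), mul_inv_rev, hs a ha, hs b hb]
  by_cases hne : (P : Subgroup G) = ⊥
  · rw [hne, Subgroup.mem_bot] at ha
    rw [ha, one_mul, mul_one]
  have : Nontrivial (P : Subgroup G) := (Subgroup.nontrivial_iff_ne_bot _).2 hne
  have : Nontrivial (Subgroup.center (P : Subgroup G)) := P.isPGroup'.center_nontrivial
  obtain ⟨z, hz⟩ := exists_ne (1 : Subgroup.center (P : Subgroup G))
  set x : G := ((z : (P : Subgroup G)) : G) with hx
  have hxP : x ∈ (P : Subgroup G) := (z : (P : Subgroup G)).2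
  have hx1 : x ≠ 1 := fun e => hz (Subtype.ext (Subtype.ext e))
  have hxc : ∀ c ∈ (P : Subgroup G), c * x = x * c := fun c hc =>
    congrArg Subtype.val (Subgroup.mem_center_iff.1 z.2 ⟨c, hc⟩)
  have hxinv : x⁻¹ ≠ x := fun e => by
    have h1 : orderOf x ∣ 2 := orderOf_dvd_of_pow_eq_one (by
      rw [pow_two]; nth_rw 1 [← e]; exact inv_mul_cancel x)
    have h3 : orderOf x ∣ p := orderOf_dvd_of_pow_eq_one (pow_eq_one_of_isConj P.isPGroup' hconj hxP)
    have h4 := Nat.dvd_gcd h1 h3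
    rw [(Nat.coprime_primes Nat.prime_two hp).2 (Ne.symm h2)] at h4
    exact hx1 (orderOf_eq_one_iff.1 (Nat.dvd_one.1 h4))
  obtain ⟨g, hg⟩ := isConj_iff.1 (hconj x hxP x⁻¹ (inv_mem hxP) hx1 (by simpa using hx1))
  have hxC : ∀ w : G, (∀ c ∈ (P : Subgroup G), c * w = w * c) →
      w ∈ Subgroup.centralizer ((P : Subgroup G) : Set G) := fun w hw =>
    Subgroup.mem_centralizer_iff.2 hw
  obtain ⟨n, hn, hnx⟩ := P.conj_eq_normalizer_conj_of_mem_centralizer x g⁻¹ (hxC x hxc)
    (by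
      rw [inv_inv, hg]
      exact inv_mem (hxC x hxc))
  rw [inv_inv, hg] at hnx
  -- the 2-part of the element inverting `x`
  obtain ⟨k, m, hm, hnm⟩ := Nat.exists_eq_two_pow_mul_odd (orderOf_pos n).ne'
  set h : G := (n⁻¹) ^ m with hh
  have hhN : h ∈ Subgroup.normalizer ((P : Subgroup G) : Set G) :=
    Subgroup.pow_mem _ (inv_mem hn) m
  have h1 : n⁻¹ * x * n = x⁻¹ := hnx.symm
  have h1' : n⁻¹ * x⁻¹ * n = x := by
    calc n⁻¹ * x⁻¹ * n = (n⁻¹ * x * n)⁻¹ := by group
      _ = x := by rw [h1, inv_inv]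
  have hpar : ∀ i : ℕ, (n⁻¹) ^ i * x * ((n⁻¹) ^ i)⁻¹ = if Even i then x else x⁻¹ := fun i => by
    induction i with
    | zero => simp
    | succ i ih =>
      have hs : (n⁻¹) ^ (i + 1) * x * ((n⁻¹) ^ (i + 1))⁻¹ =
          n⁻¹ * ((n⁻¹) ^ i * x * ((n⁻¹) ^ i)⁻¹) * n := by
        rw [pow_succ']
        group
      rw [hs, ih]
      by_cases hi : Even i <;> simp [hi, Nat.even_add_one, h1, h1']
  have hhx : h * x * h⁻¹ = x⁻¹ := by
    rw [hh, hpar, if_neg (Nat.not_even_iff_odd.2 hm)]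
  have hord : (orderOf h).Coprime p := by
    have h1 : h ^ (2 ^ k) = 1 := by
      rw [hh, ← pow_mul, mul_comm, ← hnm, inv_pow, pow_orderOf_eq_one, inv_one]
    exact Nat.Coprime.coprime_dvd_left (orderOf_dvd_of_pow_eq_one h1)
      (((Nat.coprime_primes Nat.prime_two hp).2 (Ne.symm h2)).pow_left k)
  -- an element fixing `y` fixes `C_P(y)`
  have hkey : ∀ w : G, w ∈ Subgroup.normalizer ((P : Subgroup G) : Set G) →
      (orderOf w).Coprime p → ∀ y ∈ (P : Subgroup G), y ≠ 1 → w * y = y * w →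
      ∀ c ∈ (P : Subgroup G), c * y = y * c → w * c = c * w := by
    intro w hwN hwc y hy hy1 hwy c hc hcy
    set C := Subgroup.centralizer ({y} : Set G)
    have hwC : w ∈ C := Subgroup.mem_centralizer_singleton_iff.2 hwy
    have hcC : c ∈ C := Subgroup.mem_centralizer_singleton_iff.2 hcy
    have hmem := CfsgLib.Transfer.mem_centralizer_of_hasNormalPComplement (hnil y hy hy1)
      (Q := (P : Subgroup G).comap C.subtype)
      (P.isPGroup'.comap_of_injective _ C.subtype_injective)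
      (g := ⟨w, hwC⟩) (Subgroup.mem_normalizer_iff.2 fun d => ?_) (by rwa [Subgroup.orderOf_mk])
    · exact (congrArg Subtype.val (Subgroup.mem_centralizer_iff.1 hmem ⟨c, hcC⟩ hc)).symm
    · show (d : G) ∈ (P : Subgroup G) ↔ w * (d : G) * w⁻¹ ∈ (P : Subgroup G)
      exact Subgroup.mem_normalizer_iff.1 hwN d
  have hh2 : ∀ c ∈ (P : Subgroup G), (h * h) * c = c * (h * h) := fun c hc =>
    hkey (h * h) (mul_mem hhN hhN)
      (by rw [← pow_two]; exact hord.coprime_dvd_left (orderOf_pow_dvd 2)) x hxP hx1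
      (mul_inv_eq_iff_eq_mul.1 (by
        calc h * h * x * (h * h)⁻¹ = h * (h * x * h⁻¹) * h⁻¹ := by group
          _ = h * x⁻¹ * h⁻¹ := by rw [hhx]
          _ = (h * x * h⁻¹)⁻¹ := by group
          _ = x := by rw [hhx, inv_inv])) c hc (hxc c hc)
  let φ : (P : Subgroup G) →* (P : Subgroup G) :=
    ((MulAut.conj h).toMonoidHom.comp (P : Subgroup G).subtype).codRestrict _ fun c =>
      (Subgroup.mem_normalizer_iff.1 hhN c).1 c.2
  have hφ : MonoidHom.FixedPointFree φ := by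
    intro c hc
    by_contra hc1
    have e : h * (c : G) * h⁻¹ = c := congrArg Subtype.val hc
    have e2 := hkey h hhN hord c c.2 (fun e => hc1 (Subtype.ext e))
      (mul_inv_eq_iff_eq_mul.1 e) x hxP (hxc c c.2).symm
    refine hxinv ?_
    rw [← hhx, e2, mul_inv_cancel_right]
  have hinv : Function.Involutive φ := fun c => Subtype.ext (by
    show h * (h * (c : G) * h⁻¹) * h⁻¹ = c
    calc h * (h * (c : G) * h⁻¹) * h⁻¹ = (h * h) * c * (h * h)⁻¹ := by group
      _ = c := by rw [hh2 c c.2, mul_inv_cancel_right])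
  exact congrArg Subtype.val (hφ.commute_all_of_involutive hinv ⟨a, ha⟩ ⟨b, hb⟩).eq

/-- In a `p`-solvable group a Sylow subgroup with one class of nontrivial elements is abelian. -/
theorem commute_of_isPSolvable (hsol : IsPSolvable p G) (P : Sylow p G)
    (hconj : ∀ u ∈ (P : Subgroup G), ∀ v ∈ (P : Subgroup G), u ≠ 1 → v ≠ 1 → IsConj u v)
    (a : G) (ha : a ∈ (P : Subgroup G)) (b : G) (hb : b ∈ (P : Subgroup G)) : a * b = b * a := by
  set N := pPrimeCore p G
  set π := QuotientGroup.mk' N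
  set Q := pCore p (G ⧸ N)
  have hcon := PLocal.isPConstrained_iff.1 (PLocal.isPConstrained_of_isPSolvable hsol)
  have hQS : Q ≤ (P : Subgroup G).map π := by
    have h := CfsgLib.Core.pCore_le_sylow (P.mapSurjective (QuotientGroup.mk'_surjective N))
    rwa [Sylow.coe_mapSurjective] at h
  have hdisj : Disjoint (P : Subgroup G) N := by
    obtain ⟨k, hk⟩ := IsPGroup.iff_card.1 P.isPGroup'
    exact Subgroup.disjoint_of_coprime_natCard (by
      rw [hk]
      exact (CfsgLib.Core.coprime_card_pPrimeCore p G).symm.pow_left k)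
  have hinj : ∀ c ∈ (P : Subgroup G), π c = 1 → c = 1 := fun c hc e =>
    (Subgroup.disjoint_def.1 hdisj) hc ((QuotientGroup.eq_one_iff c).1 e)
  set W : Subgroup (G ⧸ N) := Q ⊓ Subgroup.centralizer (Q : Set (G ⧸ N))
  have hWall : ∀ c ∈ (P : Subgroup G), π c ∈ W := by
    intro c hc
    by_cases hc1 : π c = 1
    · rw [hc1]; exact one_mem _
    by_cases hQ : Q = ⊥
    · exfalso
      have h1 : π c ∈ Subgroup.centralizer (Q : Set (G ⧸ N)) := by
        rw [hQ]
        exact Subgroup.mem_centralizer_iff.2 fun y hy => by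
          rw [Subgroup.coe_bot, Set.mem_singleton_iff] at hy
          rw [hy, one_mul, mul_one]
      have h2 := hcon h1
      rw [show pCore p (G ⧸ N) = ⊥ from hQ, Subgroup.mem_bot] at h2
      exact hc1 h2
    have : Nontrivial Q := (Subgroup.nontrivial_iff_ne_bot _).2 hQ
    have : Nontrivial (Subgroup.center Q) :=
      (CfsgLib.Core.isPGroup_pCore p (G ⧸ N)).center_nontrivial
    obtain ⟨z, hz⟩ := exists_ne (1 : Subgroup.center Q)
    have hzW : ((z : Q) : G ⧸ N) ∈ W := ⟨(z : Q).2, Subgroup.mem_centralizer_iff.2 fun y hy =>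
      congrArg Subtype.val (Subgroup.mem_center_iff.1 z.2 ⟨y, hy⟩)⟩
    obtain ⟨d, hd, hdz⟩ := hQS (z : Q).2
    have hd1 : d ≠ 1 := fun e => hz (Subtype.ext (Subtype.ext (by rw [← hdz, e, map_one]; rfl)))
    obtain ⟨g, rfl⟩ := isConj_iff.1 (hconj d hd c hc hd1 fun e => hc1 (by rw [e, map_one]))
    have hWn : W.Normal := by infer_instance
    rw [map_mul, map_mul, map_inv]
    exact hWn.conj_mem _ (hdz ▸ hzW) _
  have hc : π a * π b = π b * π a :=
    Subgroup.mem_centralizer_iff.1 (hWall b hb).2 _ (hWall a ha).1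
  have h1 := hinj (a * b * a⁻¹ * b⁻¹) (mul_mem (mul_mem (mul_mem ha hb) (inv_mem ha)) (inv_mem hb))
    (by simp only [map_mul, map_inv, hc]; group)
  rwa [mul_inv_eq_one, mul_inv_eq_iff_eq_mul] at h1

end CfsgLib.Blocks.DeficitOne
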