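import Cfsg.Agent.Lib.Blocks.DeficitOne.Count
import Cfsg.Agent.Lib.Blocks.DeficitOne.Group
import Cfsg.Agent.Lib.Blocks.HeightPSolvable
import Cfsg.Agent.S4436
import Cfsg.Agent.Lib.CharAction.Rank
import Cfsg.Agent.Lib.Pairs.Principal
import Cfsg.Agent.Lib.Blocks.Principal

/-!
# Defect groups of blocks with `k = l + 1`

For the principal block the centralizers of the nontrivial elements of a Sylow subgroup are
`p`-nilpotent, and for a `p`-solvable group the Fong-Reynolds reduction keeps `k ≤ l + 1`.
-/

set_option autoImplicit false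

open scoped Classical

namespace CfsgLib.Blocks.DeficitOne

open Cfsg CfsgLib.Blocks CfsgLib.Char

universe u

variable {p : ℕ} [Fact p.Prime] {M : Ideal AlgInt} [M.IsPrime]

omit [M.IsPrime] [Fact p.Prime] in
/-- The regular part of an induced function. -/
theorem pRegularPart_indFun {G : Type u} [Group G] [Fintype G] (T : Subgroup G) [Fintype T]
    (ψ : T → ℂ) : pRegularPart p (indFun T ψ) = indFun T (pRegularPart p ψ) := by
  funext g
  have key : ∀ x : G, extendByZero T (pRegularPart p ψ) (x⁻¹ * g * x) =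
      if IsPRegular p g then extendByZero T ψ (x⁻¹ * g * x) else 0 := fun x => by
    have ho : orderOf (x⁻¹ * g * x) = orderOf g := by
      have := MulEquiv.orderOf_eq (MulAut.conj x⁻¹) g
      rwa [MulAut.conj_apply, inv_inv] at this
    by_cases hm : x⁻¹ * g * x ∈ T
    · have e : ∀ f : T → ℂ, extendByZero T f (x⁻¹ * g * x) = f ⟨_, hm⟩ := fun f =>
        extendByZero_coe T f ⟨_, hm⟩
      rw [e, e, pRegularPart]
      simp only [IsPRegular, Subgroup.orderOf_mk, ho]
      by_cases hg : p ∣ orderOf g <;> simp [hg]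
    · rw [extendByZero_of_notMem T _ hm, extendByZero_of_notMem T _ hm, ite_self]
  simp only [pRegularPart, indFun, Finset.sum_congr rfl fun x _ => key x]
  split_ifs <;> simp

/-- The principal block of `C(y)` has rank one. -/
theorem hasNormalPComplement_centralizer {G : Type u} [Group G] [Fintype G]
    (hM : IsPModular p M) (hk : Nat.card (principalBlock M G) ≤ blockRank p (principalBlock M G) + 1)
    {y : G} (hy : ∃ k : ℕ, orderOf y = p ^ k) (hy1 : y ≠ 1) :
    HasNormalPComplement p (Subgroup.centralizer ({y} : Set G)) := by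
  have := Fintype.ofFinite (Subgroup.centralizer ({y} : Set G))
  have h := sum_local_rank_add_le hM (isPBlock_principalBlock (G := G) (M := M)) {y}
    (fun x hx => by rw [Finset.mem_singleton] at hx; exact hx ▸ ⟨hy1, hy⟩)
    (fun x hx z hz _ => by rw [Finset.mem_singleton] at hx hz; rw [hx, hz])
  have hb := isPBlock_principalBlock (G := Subgroup.centralizer ({y} : Set G)) (M := M)
  rw [Finset.sum_singleton, show {b : Set (IrrCharacter (Subgroup.centralizer ({y} : Set G))) |
      IsInducedBlock M (Subgroup.centralizer ({y} : Set G)) b (principalBlock M G)} =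
      {principalBlock M (Subgroup.centralizer ({y} : Set G))} from Set.ext fun b => ⟨fun hbi =>
        (isInducedBlock_principal_iff hM hy (isInducedBlock_iff.1 hbi).1).1 hbi,
        fun hbe => by
          rw [Set.mem_singleton_iff] at hbe
          subst hbe
          exact (isInducedBlock_principal_iff hM hy hb).2 rfl⟩,
    finsum_mem_singleton] at h
  have h1 := one_le_blockRank (p := p)
    (trivChar_mem_principalBlock (G := Subgroup.centralizer ({y} : Set G)) (M := M))
  exact (CfsgLib.CharAction.blockRank_principal_eq_one_iff hM).1 (by omega)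

/-- In a `p`-solvable group the defect group is abelian. -/
theorem commute_of_card_le_aux (hM : IsPModular p M) : ∀ (n : ℕ) (G : Type u) [Group G] [Fintype G],
    Nat.card G = n → IsPSolvable p G → ∀ {B : Set (IrrCharacter G)}, IsPBlock M B →
    ∀ {D : Subgroup G}, IsDefectGroup p M B D → Nat.card B ≤ blockRank p B + 1 →
    ∀ a ∈ D, ∀ b ∈ D, a * b = b * a := by
  intro n
  induction n using Nat.strong_induction_on with
  | _ n ih =>
    intro G _ _ hn hsol B hB D hD hk
    let N := pPrimeCore p G
    have := Fintype.ofFinite N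
    have hNp : ¬ p ∣ Nat.card N :=
      ((Fact.out : p.Prime).coprime_iff_not_dvd).1
        (CfsgLib.Core.coprime_card_pPrimeCore p G).symm
    obtain ⟨χ, hχ⟩ := IsPBlock.nonempty hB
    obtain ⟨θ, hθ⟩ := exists_constituent N χ
    by_cases hinv : ∀ g : G, conjIrr N g θ = θ
    · obtain ⟨B', hB', hmem, χ₁, hχ₁, hd₁⟩ := FongInvariant.exists_block hM hsol rfl θ hinv
      obtain rfl : B' = B := IsPBlock.eq_of_mem hB' hB ((hmem χ).2 hθ) hχ
      obtain ⟨S, rfl⟩ := (FongInvariant.isDefectGroup_sylow hM hB hχ₁ hd₁).2 D hD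
      exact commute_of_isPSolvable hsol S fun u hu v hv hu1 hv1 =>
        isConj_of_card_le hM hB hD hk hu hv hu1 hv1
    · set T := Clifford.inertia (inferInstance : N.Normal) (θ : N → ℂ) with hTdef
      have hNT : N ≤ T := Clifford.le_inertia _ (IsIrr.isClassFunction θ.2)
      have hT' : ∀ g : G, g ∈ T ↔ conjIrr N g θ = θ := fun g => by
        rw [hTdef, Clifford.mem_inertia, Subtype.ext_iff, conjIrr_eq_conjFn]
      have hT : ∀ g : G, g ∈ T ↔ ∀ φ ∈ ({θ} : Set (IrrCharacter N)),
          conjIrr N g φ ∈ ({θ} : Set (IrrCharacter N)) := fun g => by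
        simp only [Set.mem_singleton_iff, forall_eq, hT']
      have hb : IsPBlock M ({θ} : Set (IrrCharacter N)) :=
        ⟨θ, (blockOf_eq_singleton_of_coprime hM hNp θ).symm⟩
      have hlt : Nat.card T < Nat.card G := by
        refine lt_of_le_of_ne (Nat.le_of_dvd Nat.card_pos T.card_subgroup_dvd_card)
          fun he => hinv fun g => ?_
        exact (hT' g).1 ((Subgroup.eq_top_of_card_eq T he).symm ▸ Subgroup.mem_top g)
      have := Fintype.ofFinite T
      obtain ⟨ψ, hψ, hind, hBi⟩ :=
        exists_liesOver_of_mem N hNT hb hT hB hχ (Set.mem_singleton θ) hθ hχ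
      have hB' := isPBlock_blockOf (M := M) ψ
      obtain ⟨D', hDd⟩ := exists_isDefectGroup (p := p) hB'
      have hTs : ∀ g : G, g ∈ T ↔ ∀ φ ∈ ({θ} : Set (IrrCharacter N)), ∀ φ' : IrrCharacter N,
          (∀ k : N, (φ' : N → ℂ) k = (φ : N → ℂ) ⟨g * k * g⁻¹,
            (inferInstance : N.Normal).conj_mem k k.2 g⟩) → φ' ∈ ({θ} : Set (IrrCharacter N)) :=
        fun g => (hT g).trans ⟨fun h φ hφ φ' he => by
            rw [show φ' = conjIrr N g φ from Subtype.ext (funext fun k => by
              rw [he k, conjIrr_apply])]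
            exact h φ hφ,
          fun h φ hφ => h φ hφ _ fun k => conjIrr_apply N g φ k⟩
      obtain ⟨hmapD, himg⟩ := Cfsg.Agent.S4436.result p M hM N _ hb T hTs hNT _ hB'
        ⟨ψ, mem_blockOf_self ψ, hψ⟩ B hBi
      obtain ⟨x, hx⟩ := IsDefectGroup.exists_conj hM hB (hmapD D' hDd) hD
      have ecc : D' ≃* D :=
        (D'.equivMapOfInjective T.subtype T.subtype_injective).trans
          (((D'.map T.subtype).equivMapOfInjective _ (MulAut.conj x).injective).trans
            (MulEquiv.subgroupCongr hx))
      have hk' : Nat.card (blockOf M (ψ : T → ℂ)) ≤ Nat.card B := by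
        refine Nat.card_le_card_of_injective
          (fun φ => (⟨(himg φ.1 φ.2).choose, (himg φ.1 φ.2).choose_spec.1⟩ : B)) ?_
        intro φ φ' e
        have e1 := congrArg Subtype.val e
        simp only at e1
        have hl' := fun (φ : blockOf M (ψ : T → ℂ)) =>
          liesOver_of_mem N hNT hb hT hB' (mem_blockOf_self ψ) hψ φ.2
        obtain ⟨χ₀, hχ₀, huniq, -⟩ := indFun_of_liesOver N hNT hb hT (hl' φ)
        refine Subtype.ext (huniq φ' (hl' φ') ?_).symm
        rw [← hχ₀, ← (himg φ'.1 φ'.2).choose_spec.2.1, ← (himg φ.1 φ.2).choose_spec.2.1, ← e1,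
          classInner_irr_self]
        exact one_ne_zero
      have hl : blockRank p B ≤ blockRank p (blockOf M (ψ : T → ℂ)) := by
        let L : (T → ℂ) →ₗ[ℂ] (G → ℂ) :=
          { toFun := indFun T
            map_add' := fun f f' => indFun_add T f f'
            map_smul' := fun c f => indFun_smul T c f }
        rw [blockRank, blockRank]
        refine le_trans (Submodule.finrank_mono (t := (Submodule.span ℂ
          ((fun φ : IrrCharacter T => pRegularPart p (φ : T → ℂ)) ''
            blockOf M (ψ : T → ℂ))).map L) (Submodule.span_le.2 ?_)) (Submodule.finrank_map_le _ _)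
        rintro _ ⟨χ', hχ', rfl⟩
        obtain ⟨ψ', hψ', hind', hBi'⟩ :=
          exists_liesOver_of_mem N hNT hb hT hB hχ (Set.mem_singleton θ) hθ hχ'
        have hsame : blockOf M (ψ' : T → ℂ) = blockOf M (ψ : T → ℂ) :=
          eq_of_isInducedBlock N hNT hb hT (mem_blockOf_self ψ') (mem_blockOf_self ψ) hψ' hψ hBi'
            hBi
        refine ⟨pRegularPart p (ψ' : T → ℂ),
          Submodule.subset_span ⟨ψ', hsame ▸ mem_blockOf_self ψ', rfl⟩, ?_⟩
        show indFun T _ = pRegularPart p _
        rw [← pRegularPart_indFun, hind']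
      have h := ih (Nat.card T) (hn ▸ hlt) T rfl (PLocal.isPSolvable_subgroup hsol T) hB' hDd
        (by omega)
      intro a ha b hb'
      have h1 := h (ecc.symm ⟨a, ha⟩ : T) (ecc.symm ⟨a, ha⟩).2 (ecc.symm ⟨b, hb'⟩ : T)
        (ecc.symm ⟨b, hb'⟩).2
      have h2 : ecc.symm ⟨a, ha⟩ * ecc.symm ⟨b, hb'⟩ = ecc.symm ⟨b, hb'⟩ * ecc.symm ⟨a, ha⟩ :=
        Subtype.ext h1
      rw [← map_mul, ← map_mul] at h2
      exact congrArg Subtype.val (ecc.symm.injective h2)

end CfsgLib.Blocks.DeficitOne
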